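import Cfsg.Agent.Lib.Sporadic.FiTransfer.PairCentre.Inner

/-!
# The kernel of the action: generalised Fitting subgroup and decomposition
-/

set_option autoImplicit false
set_option maxRecDepth 100000

open Cfsg.Spor
open CfsgLib.Sporadic.CosetCert CfsgLib.Sporadic.CosetCert.FiP CfsgLib.Sporadic.CosetCert.FiP.OutFi22
open CfsgLib.Sporadic.CosetCert.FiData (table)
open CfsgLib.Sporadic.FiTransfer.PairTwo
open scoped commutatorElement

namespace CfsgLib.Sporadic.FiTransfer.PairCentre

attribute [local irreducible] PTab.img symAt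

/-- The first transposition. -/
noncomputable def dY : cenJ := ⟨coding.gen 0, stabC_le gen_zero_mem_stabC⟩

/-- The product of the two. -/
noncomputable def dJ : cenJ := dY * ⟨coding.gen 2, stabC_le gen_two_mem_stabC⟩

theorem dJ_val : dJ.1 = coding.gen 0 * coding.gen 2 := rfl

theorem phi_dY : phi dY = 1 := zero_phi

theorem phi_dJ : phi dJ = 1 := by rw [dJ, map_mul, phi_dY, two_phi, one_mul]

theorem witness_ne_inner : ∀ b, cG 2 * qA 4 ≠ jp b * (qA 4 * cG 2) := by
  obtain ⟨-, w1, w2⟩ := witness_inner
  intro b h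
  cases b
  · rw [show jp false = 1 from rfl, one_mul] at h
    refine ne_of_sameA (mem2 (qA_lt 4) (cG_lt 2)) (mem2 (cG_lt 2) (qA_lt 4)) w1 ?_
    rw [prodA_two, prodA_two]
    exact h
  · refine ne_of_sameA (mem2 (qA_lt 4) (cG_lt 2)) (mem3 jW_lt (cG_lt 2) (qA_lt 4)) w2 ?_
    rw [prodA_two, prodA_three, ← jA_eq]
    refine h.trans ?_
    show jA * (qA 4 * cG 2) = qA 4 * cG 2 * jA
    exact (Subgroup.mem_centralizer_singleton_iff.1
      (mul_mem (qA_cen 4) (cG_mem 2) : qA 4 * cG 2 ∈ cenA)).symm

theorem phi_centralizing {x : cenJ} (h : ∀ g : cenJ, phi g = 1 → Commute x g) : phi x = 1 := by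
  let Z : Subgroup cenJ := Subgroup.centralizer (phi.ker : Set cenJ)
  have hZn : Z.Normal := inferInstance
  let e : phi.range ≃* psi.range := MulEquiv.subgroupCongr phi_range
  let f : cenJ →* psi.range := e.toMonoidHom.comp phi.rangeRestrict
  have hf : Function.Surjective f := e.surjective.comp phi.rangeRestrict_surjective
  have : (Z.map f).Normal := hZn.map f hf
  have hxZ : x ∈ Z := Subgroup.mem_centralizer_iff.2 fun g hg => (h g hg).symm.eq
  rcases normal_cases (Z.map f) with hM | hM
  · have h1 : f x ∈ (⊥ : Subgroup psi.range) := hM ▸ Subgroup.mem_map_of_mem f hxZ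
    exact congrArg Subtype.val (Subgroup.mem_bot.1 h1)
  · exfalso
    obtain ⟨z, hz, ez⟩ := hM (psi.rangeRestrict (cGen 2)) cG_two_mem
    have e' : phi z = psi (cGen 2) := congrArg Subtype.val ez
    obtain ⟨g, hg⟩ : ∃ g, MulAut.conj g = qA 4 := ⟨el (qW.getD (4 : Fin 10) noW).1, by
      show _ = autEl _
      rw [autEl, show (qW.getD ((4 : Fin 10) : ℕ) noW).2 = false from witness_inner.1, cond_false, mul_one]⟩
    have hgm : g ∈ cenJ := mem_cenJ.2 (hg ▸ qA_cen 4)
    have hgk : phi ⟨g, hgm⟩ = 1 := phi_eq_one (show MulAut.conj g ∈ bigQ from hg ▸ qA_mem_bigQ 4)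
    have hw : (MulAut.conj z.1)⁻¹ * cG 2 ∈ bigQ := by
      rw [bigQ_eq.1]
      exact ⟨(toA z)⁻¹ * cGen 2, by
        show psi _ = 1
        rw [map_mul, map_inv, show psi (toA z) = psi (cGen 2) from e', inv_mul_cancel], rfl⟩
    obtain ⟨b, hb⟩ := comm_mod_j hw (qA_mem_bigQ 4)
    have hc : MulAut.conj z.1 * qA 4 = qA 4 * MulAut.conj z.1 := by
      rw [← hg, ← map_mul, ← map_mul]
      exact congrArg (fun u : cenJ => MulAut.conj u.1) (Subgroup.mem_centralizer_iff.1 hz ⟨g, hgm⟩ hgk).symm
    have hz' : jp b * MulAut.conj z.1 = MulAut.conj z.1 * jp b := by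
      cases b
      · simp [jp]
      · exact (Subgroup.mem_centralizer_singleton_iff.1 (mem_cenJ.1 z.2)).symm
    apply witness_ne_inner b
    generalize MulAut.conj z.1 = Z at hb hc hz'
    calc cG 2 * qA 4 = Z * ((Z⁻¹ * cG 2) * qA 4) := by group
      _ = Z * (jp b * (qA 4 * (Z⁻¹ * cG 2))) := by rw [hb]
      _ = Z * jp b * qA 4 * Z⁻¹ * cG 2 := by group
      _ = jp b * (Z * qA 4) * Z⁻¹ * cG 2 := by rw [← hz']; group
      _ = _ := by rw [hc]; group

theorem phi_ker_pgroup : IsPGroup 2 phi.ker := IsPGroup.of_card (n := 10) (by rw [card_phi_ker]; norm_num)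

/-- The generalised Fitting subgroup of a copy of the centraliser is the kernel. -/
theorem fitting_inner {C : Type*} [Group C] [Finite C] (ι : C ≃* cenJ) :
    Cfsg.generalizedFittingSubgroup C = (phi.comp ι.toMonoidHom).ker := by
  haveI : Fact (Nat.Prime 2) := ⟨Nat.prime_two⟩
  set φ := phi.comp ι.toMonoidHom with hφ
  have hpk : IsPGroup 2 φ.ker :=
    phi_ker_pgroup.of_injective ((ι.toMonoidHom.comp φ.ker.subtype).codRestrict phi.ker fun x => x.2)
      fun a b h => Subtype.ext (ι.injective (congrArg Subtype.val h))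
  have hcore : Cfsg.pCore 2 C = φ.ker := by
    refine le_antisymm ?_ (CfsgLib.Solvable.Cores.le_pCore hpk)
    let e : phi.range ≃* psi.range := MulEquiv.subgroupCongr phi_range
    let f : C →* psi.range := (e.toMonoidHom.comp phi.rangeRestrict).comp ι.toMonoidHom
    have hf : Function.Surjective f := (e.surjective.comp phi.rangeRestrict_surjective).comp ι.surjective
    have : ((Cfsg.pCore 2 C).map f).Normal := (inferInstance : (Cfsg.pCore 2 C).Normal).map f hf
    have hMp : IsPGroup 2 ((Cfsg.pCore 2 C).map f) := (CfsgLib.Solvable.Cores.isPGroup_pCore 2).map _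
    rcases normal_cases ((Cfsg.pCore 2 C).map f) with h | h
    · intro x hx
      have h1 : f x ∈ (⊥ : Subgroup psi.range) := h ▸ Subgroup.mem_map_of_mem f hx
      exact congrArg Subtype.val (Subgroup.mem_bot.1 h1)
    · exfalso
      have : IsPGroup 2 N40 := hMp.of_injective
        ((Subgroup.inclusion N40_le).codRestrict _ fun x => h _ x.2)
        (fun a b e => Subgroup.inclusion_injective N40_le (congrArg Subtype.val e))
      obtain ⟨n, hn⟩ := IsPGroup.iff_card.1 this
      rw [N40_spec.1] at hn
      have h3 : 3 ∣ 2 ^ n := hn ▸ (by norm_num)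
      exact absurd (Nat.prime_three.dvd_of_dvd_pow h3) (by norm_num)
  rw [CfsgLib.KGroups.CharP.generalizedFitting_eq_pCore (p := 2), hcore]
  rw [hcore]
  intro x hx
  refine phi_centralizing (x := ι x) fun g hg => ?_
  have h := congrArg ι (Subgroup.mem_centralizer_iff.1 hx (ι.symm g) (by
    show phi (ι (ι.symm g)) = 1
    rw [ι.apply_symm_apply]; exact hg))
  rw [map_mul, map_mul, ι.apply_symm_apply] at h
  exact h.symm

/-- The complement: the part of the kernel commuting with the outer element. -/
noncomputable def compl : Subgroup cenJ :=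
  phi.ker ⊓ (Subgroup.centralizer ({cG 10} : Set (MulAut Fi22))).comap (MulAut.conj.comp cenJ.subtype)

theorem mem_compl {g : cenJ} :
    g ∈ compl ↔ phi g = 1 ∧ MulAut.conj g.1 * cG 10 = cG 10 * MulAut.conj g.1 := by
  show _ ∧ _ ∈ Subgroup.centralizer _ ↔ _
  rw [Subgroup.mem_centralizer_singleton_iff]
  rfl

theorem dJ_mem : dJ ∈ compl := mem_compl.2 ⟨phi_dJ, (Subgroup.mem_centralizer_singleton_iff.1 (cG_mem 10)).symm⟩

theorem dY_not_mem : dY ∉ compl := fun h => by
  obtain ⟨c, hc⟩ := eq_jp_of_commutes zero_mem_bigQ zero_commutes (mem_compl.1 h).2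
  exact zero_not_jp c hc

theorem dY_central {g : cenJ} (hg : phi g = 1) : Commute dY g :=
  Subtype.ext (comm_gen (ker_le_stabC hg)).1

theorem compl_cases {g : cenJ} (hg : phi g = 1) : g ∈ compl ∨ g * dY ∈ compl := by
  by_cases h : MulAut.conj g.1 * cG 10 = cG 10 * MulAut.conj g.1
  · exact Or.inl (mem_compl.2 ⟨hg, h⟩)
  · refine Or.inr (mem_compl.2 ⟨by rw [map_mul, hg, phi_dY, one_mul], ?_⟩)
    show MulAut.conj (g.1 * coding.gen 0) * _ = _ * MulAut.conj (g.1 * coding.gen 0)
    rw [map_mul]
    exact fix_ten (conj_mem_bigQ hg) h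

theorem card_compl : Nat.card compl = 512 := by
  have := finite
  have h := card_two_cosets (H := compl) (K := phi.ker) inf_le_left (u := dY) phi_dY dY_not_mem fun x hx => compl_cases hx
  rw [card_phi_ker] at h
  omega

theorem compl_extraspecial : Cfsg.IsExtraspecial 2 compl := by
  have := finite
  have hval : ∀ {a b : compl}, a.1.1 = b.1.1 → a = b := fun h => Subtype.ext (Subtype.ext h)
  have hker : ∀ a : compl, phi a.1 = 1 := fun a => (mem_compl.1 a.2).1
  have hcen : ∀ a ∈ Subgroup.center compl, a = 1 ∨ a = ⟨dJ, dJ_mem⟩ := by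
    intro a ha
    have hE : InnCommutes (MulAut.conj a.1.1) := by
      intro g hg
      rw [← map_mul, ← map_mul]
      rcases compl_cases hg with h | h
      · exact congrArg (fun u : compl => MulAut.conj u.1.1) (Subgroup.mem_center_iff.1 ha ⟨g, h⟩).symm
      · have h1 : Commute a.1 (g * dY) := congrArg Subtype.val (Subgroup.mem_center_iff.1 ha ⟨_, h⟩).symm
        have h2 : Commute a.1 g := by
          have := h1.mul_right (dY_central (hker a)).symm.inv_right
          rwa [mul_inv_cancel_right] at this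
        exact congrArg (fun u : cenJ => MulAut.conj u.1) h2.eq
    obtain ⟨b, hb⟩ := eq_jp_of_commutes (conj_mem_bigQ (hker a)) hE (mem_compl.1 a.2).2
    cases b
    · exact Or.inl (hval (PairTwo.conj_injective (hb.trans (map_one MulAut.conj).symm)))
    · exact Or.inr (hval (PairTwo.conj_injective hb))
  refine ExtraspecialCrit.isExtraspecial (IsPGroup.of_card (n := 9) (by rw [card_compl]; norm_num))
    ⟨dJ, dJ_mem⟩ ?_ ?_ (fun a b => ?_) (fun a => ?_) hcen ?_
  · intro h
    refine jA_ne ?_
    rw [jA, show coding.gen 0 * coding.gen 2 = 1 from congrArg (fun u : compl => u.1.1) h, map_one]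
  · exact Subgroup.mem_center_iff.2 fun g => hval
      (Subgroup.mem_centralizer_singleton_iff.1 g.1.2)
  · exact (ker_comm (hker a) (hker b)).imp (fun h => hval h) (fun h => hval h)
  · exact (ker_sq (hker a)).imp (fun h => hval h) (fun h => hval h)
  · by_contra hne
    push Not at hne
    have h2 : Nat.card compl ≤ 2 := by
      have hs : Function.Surjective fun c : Bool => (bif c then ⟨dJ, dJ_mem⟩ else 1 : compl) := by
        intro a
        rcases hcen a (Subgroup.mem_center_iff.2 fun g => hne g a) with h | h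
        · exact ⟨false, h.symm⟩
        · exact ⟨true, h.symm⟩
      exact (Nat.card_le_card_of_surjective _ hs).trans (by simp)
    rw [card_compl] at h2
    omega

theorem ker_iso : Nonempty (phi.ker ≃* Multiplicative (ZMod 2) × compl) := by
  have := finite
  let s : Multiplicative (ZMod 2) →* cenJ :=
    { toFun := fun m => if m.toAdd = 0 then 1 else dY
      map_one' := rfl
      map_mul' := fun a b => by
        have hd : dY * dY = 1 := Subtype.ext gen_zero_sq
        have h2 : ∀ x : ZMod 2, x = 0 ∨ x = 1 := by decide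
        rw [toAdd_mul]
        rcases h2 a.toAdd with ha | ha <;> rcases h2 b.toAdd with hb | hb <;> simp only [ha, hb] <;>
          simp [hd, show (1 : ZMod 2) + 1 = 0 from rfl] }
  have hs : ∀ m, s m = 1 ∨ s m = dY := fun m => by
    by_cases h : m.toAdd = 0
    · exact Or.inl (if_pos h)
    · exact Or.inr (if_neg h)
  have hsk : ∀ m, phi (s m) = 1 := fun m => by
    rcases hs m with h | h <;> rw [h]
    exacts [map_one _, phi_dY]
  let f : Multiplicative (ZMod 2) × compl →* cenJ := s.noncommCoprod compl.subtype fun m a => by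
    rcases hs m with h | h <;> rw [h]
    exacts [Commute.one_left _, dY_central (mem_compl.1 a.2).1]
  have hinj : Function.Injective f := by
    rw [injective_iff_map_eq_one]
    rintro ⟨m, a⟩ h
    change s m * a.1 = 1 at h
    by_cases hm : m.toAdd = 0
    · rw [show s m = 1 from if_pos hm, one_mul] at h
      exact Prod.ext hm (Subtype.ext h)
    · rw [show s m = dY from if_neg hm, mul_eq_one_iff_eq_inv] at h
      exact absurd (h ▸ inv_mem a.2) dY_not_mem
  have hr : f.range = phi.ker := by
    refine Subgroup.eq_of_le_of_card_ge ?_ ?_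
    · rintro _ ⟨⟨m, a⟩, rfl⟩
      show phi (s m * a.1) = 1
      rw [map_mul, hsk, (mem_compl.1 a.2).1, one_mul]
    · rw [card_phi_ker, ← Nat.card_congr (MonoidHom.ofInjective hinj).toEquiv, Nat.card_prod, card_compl]
      simp
  exact ⟨((MonoidHom.ofInjective hinj).trans (MulEquiv.subgroupCongr hr)).symm⟩

end CfsgLib.Sporadic.FiTransfer.PairCentre
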