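import Cfsg.Agent.Lib.Sporadic.FiTransfer.PairTwo.Statement

/-!
# The centraliser in the group of a product of two commuting members, type M(22)
-/

set_option autoImplicit false
set_option maxRecDepth 100000

open Cfsg.Spor
open CfsgLib.Sporadic.CosetCert CfsgLib.Sporadic.CosetCert.FiP CfsgLib.Sporadic.CosetCert.FiP.OutFi22
open CfsgLib.Sporadic.CosetCert.FiData (table)
open CfsgLib.Sporadic.FiTransfer.PairTwo
open scoped commutatorElement

namespace CfsgLib.Sporadic.FiTransfer.PairCentre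

attribute [local irreducible] PTab.img symAt

theorem witness_inner : (qW.getD 4 noW).2 = false ∧
    sameA [qW.getD 4 noW, cGens.getD 2 noW] [cGens.getD 2 noW, qW.getD 4 noW] = false ∧
    sameA [qW.getD 4 noW, cGens.getD 2 noW] [jW, cGens.getD 2 noW, qW.getD 4 noW] = false := by
  decide +kernel

theorem cGens_inner : ∀ g < 9, cGens.getD g noW = (gW.getD g [], false) := by decide +kernel

theorem gW_first : gW.getD 0 [] = [0] ∧ gW.getD 1 [] = [2] := by decide +kernel

theorem gen_zero_sq : coding.gen 0 * coding.gen 0 = 1 := by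
  have h : dp pt * dp pt = 1 := dp_sq pt
  rwa [dp_pt] at h

theorem gen_ne {x : ℕ} (hx : x = 0 ∨ x = 2) : coding.gen x ≠ 1 := by
  rw [gen_eq_dp x (by omega)]
  exact dp_ne_one _

/-- The centraliser of the product. -/
noncomputable def cenJ : Subgroup Fi22 := Subgroup.centralizer ({coding.gen 0 * coding.gen 2} : Set Fi22)

theorem mem_cenJ {g : Fi22} : g ∈ cenJ ↔ MulAut.conj g ∈ cenA := by
  rw [cenJ, cenA, jA, Subgroup.mem_centralizer_singleton_iff, Subgroup.mem_centralizer_singleton_iff,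
    ← map_mul, ← map_mul, PairTwo.conj_injective.eq_iff]

theorem gen_zero_mem_stabC : coding.gen 0 ∈ stabC :=
  Subgroup.mem_centralizer_iff.2 fun y hy => by
    rcases hy with rfl | rfl
    exacts [rfl, commute_ac.eq.symm]

theorem gen_two_mem_stabC : coding.gen 2 ∈ stabC :=
  Subgroup.mem_centralizer_iff.2 fun y hy => by
    rcases hy with rfl | rfl
    exacts [commute_ac.eq, rfl]

theorem comm_gen {g : Fi22} (h : g ∈ stabC) :
    coding.gen 0 * g = g * coding.gen 0 ∧ coding.gen 2 * g = g * coding.gen 2 :=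
  ⟨Subgroup.mem_centralizer_iff.1 h _ (Or.inl rfl), Subgroup.mem_centralizer_iff.1 h _ (Or.inr rfl)⟩

theorem stabC_le : stabC ≤ cenJ := fun g hg => by
  obtain ⟨h0, h2⟩ := comm_gen hg
  rw [cenJ, Subgroup.mem_centralizer_singleton_iff]
  exact ((Commute.symm h0).mul_right (Commute.symm h2)).eq

theorem map_cenJ : cenJ.map MulAut.conj = innPart := by
  ext β
  constructor
  · rintro ⟨g, hg, rfl⟩
    exact ⟨mem_cenJ.1 hg, g, rfl⟩
  · rintro ⟨hβ, g, rfl⟩
    exact ⟨g, mem_cenJ.2 hβ, rfl⟩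

theorem card_cenJ : Nat.card cenJ = 53084160 := by
  have := finite_aut
  rw [← Subgroup.card_map_of_injective (f := MulAut.conj) PairTwo.conj_injective, map_cenJ,
    card_two_cosets innC_le cG_nine.1 cG_nine.2 inn_cases, innC,
    Subgroup.card_map_of_injective PairTwo.conj_injective, card_stabC]

/-- The inclusion in the centraliser in the automorphism group. -/
noncomputable def toA : cenJ →* cenA :=
  (MulAut.conj.comp cenJ.subtype).codRestrict cenA fun g => mem_cenJ.1 g.2

theorem toA_val (g : cenJ) : (toA g).1 = MulAut.conj g.1 := rfl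

/-- The action of the centraliser on the forty. -/
noncomputable def phi : cenJ →* Equiv.Perm (Fin 40) := psi.comp toA

theorem psi_ten : psi (cGen 10) = 1 := psi_triv (by norm_num) trivial_gens.2.2

theorem psi_toA {β : cenA} (h : β.1 ∈ innPart) : ∃ g, phi g = psi β := by
  obtain ⟨g, hg⟩ := h.2
  refine ⟨⟨g, mem_cenJ.2 (hg ▸ β.2)⟩, ?_⟩
  show psi (toA _) = psi β
  congr 1
  exact Subtype.ext hg

theorem phi_range : phi.range = psi.range := by
  refine le_antisymm (by rintro _ ⟨g, rfl⟩; exact ⟨toA g, rfl⟩) ?_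
  rintro _ ⟨β, rfl⟩
  rcases cen_cases β.1 β.2 with h | h
  · exact psi_toA h
  · obtain ⟨g, hg⟩ := psi_toA (β := β * cGen 10) h
    exact ⟨g, by rw [hg, map_mul, psi_ten, mul_one]⟩

theorem card_phi_ker : Nat.card phi.ker = 1024 := by
  have h := phi.ker.card_mul_index
  rw [Subgroup.index_ker, phi_range, psi_range_card, card_cenJ] at h
  exact Nat.eq_of_mul_eq_mul_right (show 0 < 51840 by norm_num) (h.trans (show 53084160 = 1024 * 51840 by norm_num))

theorem conj_mem_bigQ {g : cenJ} (h : phi g = 1) : MulAut.conj g.1 ∈ bigQ := by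
  rw [bigQ_eq.1]; exact ⟨toA g, h, rfl⟩

theorem phi_eq_one {g : cenJ} (h : MulAut.conj g.1 ∈ bigQ) : phi g = 1 := by
  rw [bigQ_eq.1] at h
  obtain ⟨y, hy, e⟩ := h
  show psi (toA g) = 1
  rw [← show y = toA g from Subtype.ext e]
  exact hy

theorem phi_gW {g : ℕ} (hg : g < 9) (h : el (gW.getD g []) ∈ cenJ) :
    phi ⟨_, h⟩ = psi (cGen g) := by
  show psi _ = _
  congr 1
  refine Subtype.ext ?_
  show MulAut.conj (el (gW.getD g [])) = cG g
  rw [cG, cGens_inner g hg, autEl_false]

theorem gW_mem_stabC {g : ℕ} (hg : g < 9) : el (gW.getD g []) ∈ stabC :=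
  el_getD_mem (fun _ => el_gW_mem) g

theorem phi_stabC {g : cenJ} (h : g.1 ∈ stabC) : phi g ∈ N40 := by
  have key : ∀ x ∈ stabC, ∃ hx : x ∈ cenJ, phi ⟨x, hx⟩ ∈ N40 := by
    intro x hx
    rw [← stabC_eq] at hx
    induction hx using Subgroup.closure_induction with
    | mem y hy =>
      obtain ⟨w, hw, rfl⟩ := hy
      obtain ⟨i, hi, rfl⟩ := List.mem_iff_getElem.1 hw
      rw [← List.getD_eq_getElem _ [] hi]
      have hi' : i < 9 := hi
      refine ⟨stabC_le (gW_mem_stabC hi'), ?_⟩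
      rw [phi_gW hi']
      obtain ⟨t0, t1, -⟩ := trivial_gens
      interval_cases i
      · rw [psi_triv (by norm_num) t0]; exact one_mem _
      · rw [psi_triv (by norm_num) t1]; exact one_mem _
      iterate 7 exact seven_mem (by norm_num)
    | one => exact ⟨one_mem _, by rw [show (⟨1, one_mem _⟩ : cenJ) = 1 from rfl, map_one]; exact one_mem _⟩
    | mul a b _ _ ha hb =>
      obtain ⟨ha, ha'⟩ := ha
      obtain ⟨hb, hb'⟩ := hb
      exact ⟨mul_mem ha hb, by
        rw [show (⟨a * b, _⟩ : cenJ) = ⟨a, ha⟩ * ⟨b, hb⟩ from rfl, map_mul]; exact mul_mem ha' hb'⟩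
    | inv a _ ha =>
      obtain ⟨ha, ha'⟩ := ha
      exact ⟨inv_mem ha, by
        rw [show (⟨a⁻¹, _⟩ : cenJ) = (⟨a, ha⟩ : cenJ)⁻¹ from rfl, map_inv]; exact inv_mem ha'⟩
  exact (key g.1 h).2

theorem stabC_facts : (∀ g : cenJ, phi g = 1 → g.1 ∈ stabC) ∧
    ∀ π ∈ N40, ∃ g : cenJ, g.1 ∈ stabC ∧ phi g = π := by
  have := finite
  let S := stabC.subgroupOf cenJ
  let f := phi.comp S.subtype
  have hS : Nat.card S = 26542080 := by
    rw [Nat.card_congr (Subgroup.subgroupOfEquivOfLe stabC_le).toEquiv, card_stabC]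
  have hr : f.range ≤ N40 := by rintro _ ⟨x, rfl⟩; exact phi_stabC x.2
  have hk : f.ker.map S.subtype ≤ phi.ker := by rintro _ ⟨x, hx, rfl⟩; exact hx
  have h1 : Nat.card f.range ≤ 25920 := by rw [← N40_spec.1]; exact Subgroup.card_le_of_le hr
  have h2 : Nat.card f.ker ≤ 1024 := by
    rw [← card_phi_ker, ← Subgroup.card_map_of_injective (f := S.subtype) S.subtype_injective]
    exact Subgroup.card_le_of_le hk
  have h := f.ker.card_mul_index
  rw [Subgroup.index_ker, hS] at h
  have hk' : 1024 ≤ Nat.card f.ker := by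
    by_contra hlt
    have := Nat.mul_le_mul (Nat.le_sub_one_of_lt (Nat.lt_of_not_le hlt)) h1
    omega
  have hr' : 25920 ≤ Nat.card f.range := by
    by_contra hlt
    have := Nat.mul_le_mul h2 (Nat.le_sub_one_of_lt (Nat.lt_of_not_le hlt))
    omega
  have ek : f.ker.map S.subtype = phi.ker := Subgroup.eq_of_le_of_card_ge hk
    (by rw [card_phi_ker, Subgroup.card_map_of_injective S.subtype_injective]; exact hk')
  have er : f.range = N40 := Subgroup.eq_of_le_of_card_ge hr (by rw [N40_spec.1]; exact hr')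
  refine ⟨fun g hg => ?_, fun π hπ => ?_⟩
  · have hg' : g ∈ f.ker.map S.subtype := ek ▸ hg
    obtain ⟨x, -, rfl⟩ := hg'
    exact x.2
  · rw [← er] at hπ
    obtain ⟨x, hx⟩ := hπ
    exact ⟨x.1, x.2, hx⟩

theorem ker_le_stabC {g : cenJ} (h : phi g = 1) : g.1 ∈ stabC := stabC_facts.1 g h

theorem zero_phi : phi ⟨coding.gen 0, stabC_le gen_zero_mem_stabC⟩ = 1 := by
  refine (congrArg phi (Subtype.ext ?_)).trans
    ((phi_gW (show 0 < 9 by norm_num) (stabC_le (gW_mem_stabC (by norm_num)))).trans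
      (psi_triv (by norm_num) trivial_gens.1))
  show coding.gen 0 = el (gW.getD 0 [])
  rw [gW_first.1, el_single]

theorem two_phi : phi ⟨coding.gen 2, stabC_le gen_two_mem_stabC⟩ = 1 := by
  refine (congrArg phi (Subtype.ext ?_)).trans
    ((phi_gW (show 1 < 9 by norm_num) (stabC_le (gW_mem_stabC (by norm_num)))).trans
      (psi_triv (by norm_num) trivial_gens.2.1))
  show coding.gen 2 = el (gW.getD 1 [])
  rw [gW_first.2, el_single]

theorem zero_not_jp (b : Bool) : MulAut.conj (coding.gen 0) ≠ jp b := by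
  intro h
  cases b
  · exact gen_ne (Or.inl rfl) (PairTwo.conj_injective (h.trans (map_one MulAut.conj).symm))
  · have e := PairTwo.conj_injective (a₂ := coding.gen 0 * coding.gen 2) h
    exact gen_ne (Or.inr rfl) (mul_left_cancel (e.symm.trans (mul_one _).symm))

theorem ten_mem : cG 10 ∈ bigQ := by
  rw [bigQ_eq.1]; exact ⟨cGen 10, psi_ten, rfl⟩

/-- The part of the kernel in the inner automorphisms. -/
def InnCommutes (x : MulAut Fi22) : Prop := ∀ g : cenJ, phi g = 1 → x * MulAut.conj g.1 = MulAut.conj g.1 * x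

theorem eq_jp_of_commutes {x : MulAut Fi22} (hx : x ∈ bigQ) (hE : InnCommutes x)
    (hu : x * cG 10 = cG 10 * x) : ∃ b, x = jp b := by
  refine central_cases hx fun k => ?_
  rcases cen_cases (qA k) (qA_cen k) with h | h
  · obtain ⟨g, hg⟩ := h.2
    have hgm : g ∈ cenJ := mem_cenJ.2 (hg ▸ qA_cen k)
    rw [← hg]
    exact hE ⟨g, hgm⟩ (phi_eq_one (show MulAut.conj g ∈ bigQ from hg ▸ qA_mem_bigQ k))
  · obtain ⟨g, hg⟩ := h.2
    have hgm : g ∈ cenJ := mem_cenJ.2 (hg ▸ mul_mem (qA_cen k) (cG_mem 10))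
    have hc : Commute x (MulAut.conj g) :=
      hE ⟨g, hgm⟩ (phi_eq_one (show MulAut.conj g ∈ bigQ from hg ▸ mul_mem (qA_mem_bigQ k) ten_mem))
    have h2 := hc.mul_right (Commute.inv_right hu)
    rwa [hg, mul_inv_cancel_right] at h2

theorem zero_commutes : InnCommutes (MulAut.conj (coding.gen 0)) := fun g hg => by
  rw [← map_mul, ← map_mul, (comm_gen (ker_le_stabC hg)).1]

theorem zero_mem_bigQ : MulAut.conj (coding.gen 0) ∈ bigQ := conj_mem_bigQ zero_phi

theorem zero_ten : MulAut.conj (coding.gen 0) * cG 10 = jA * (cG 10 * MulAut.conj (coding.gen 0)) := by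
  obtain ⟨b, hb⟩ := comm_mod_j zero_mem_bigQ ten_mem
  cases b
  · obtain ⟨c, hc⟩ := eq_jp_of_commutes zero_mem_bigQ zero_commutes
      (by rwa [show jp false = 1 from rfl, one_mul] at hb)
    exact absurd hc (zero_not_jp c)
  · exact hb

theorem jp_sq (b : Bool) : jp b * jp b = 1 := by rw [← jp_xor, Bool.xor_self]; rfl

/-- Multiplying by the first transposition corrects the commutator with the outer element. -/
theorem fix_ten {x : MulAut Fi22} (hx : x ∈ bigQ) (h : ¬ x * cG 10 = cG 10 * x) :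
    x * MulAut.conj (coding.gen 0) * cG 10 = cG 10 * (x * MulAut.conj (coding.gen 0)) := by
  obtain ⟨b, hb⟩ := comm_mod_j hx ten_mem
  cases b
  · exact absurd (by rwa [show jp false = 1 from rfl, one_mul] at hb) h
  · have hz := zero_ten
    have hj : x * jA = jA * x := (jp_comm hx true).symm
    have hsq : jA * jA = 1 := jA_sq
    generalize MulAut.conj (coding.gen 0) = y at hz ⊢
    change x * cG 10 = jA * (cG 10 * x) at hb
    generalize cG 10 = u at hb hz ⊢
    calc x * y * u = x * jA * (u * y) := by rw [mul_assoc, hz]; group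
      _ = jA * (x * u) * y := by rw [hj]; group
      _ = jA * jA * u * x * y := by rw [hb]; group
      _ = u * (x * y) := by rw [hsq]; group

/-- The subgroup generated by the two transpositions. -/
noncomputable def fourV : Subgroup Fi22 := Subgroup.closure ({coding.gen 0, coding.gen 2} : Set Fi22)

theorem jp_eq_conj (b : Bool) : ∃ v ∈ fourV, jp b = MulAut.conj v := by
  cases b
  · exact ⟨1, one_mem _, (map_one MulAut.conj).symm⟩
  · exact ⟨_, mul_mem (Subgroup.subset_closure (Set.mem_insert _ _))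
      (Subgroup.subset_closure (Or.inr rfl)), rfl⟩

theorem fourV_le_ker {v : Fi22} (hv : v ∈ fourV) : ∃ h : v ∈ cenJ, phi ⟨v, h⟩ = 1 := by
  have hle : fourV ≤ phi.ker.map cenJ.subtype := by
    rw [fourV, Subgroup.closure_le]
    rintro y (rfl | rfl)
    exacts [⟨_, zero_phi, rfl⟩, ⟨_, two_phi, rfl⟩]
  obtain ⟨y, hy, rfl⟩ := hle hv
  exact ⟨y.2, hy⟩

theorem center_stabC {z : Fi22} (hz : z ∈ stabC) (hc : ∀ g ∈ stabC, g * z = z * g) : z ∈ fourV := by
  have h1 : phi ⟨z, stabC_le hz⟩ = 1 := by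
    refine commute_tv fun v => ?_
    obtain ⟨g, hg, hgv⟩ := stabC_facts.2 (tv v) (N40_eq ▸ Subgroup.subset_closure ⟨v, rfl⟩)
    rw [← hgv]
    exact (show Commute (⟨z, stabC_le hz⟩ : cenJ) g from Subtype.ext (hc g.1 hg).symm).map phi
  have hE : InnCommutes (MulAut.conj z) := fun g hg => by
    rw [← map_mul, ← map_mul, hc g.1 (ker_le_stabC hg)]
  have hzQ : MulAut.conj z ∈ bigQ := conj_mem_bigQ h1
  by_cases h : MulAut.conj z * cG 10 = cG 10 * MulAut.conj z
  · obtain ⟨b, hb⟩ := eq_jp_of_commutes hzQ hE h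
    obtain ⟨v, hv, hjv⟩ := jp_eq_conj b
    exact PairTwo.conj_injective (hb.trans hjv) ▸ hv
  · obtain ⟨b, hb⟩ := eq_jp_of_commutes (mul_mem hzQ zero_mem_bigQ)
      (fun g hg => Commute.mul_left (hE g hg) (zero_commutes g hg)) (fix_ten hzQ h)
    obtain ⟨v, hv, hjv⟩ := jp_eq_conj b
    rw [hjv, ← map_mul] at hb
    have e := PairTwo.conj_injective hb
    rw [← eq_mul_inv_iff_mul_eq] at e
    exact e ▸ mul_mem hv (inv_mem (Subgroup.subset_closure (Set.mem_insert _ _)))

theorem ker_comm {x y : cenJ} (hx : phi x = 1) (hy : phi y = 1) :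
    x.1 * y.1 * x.1⁻¹ * y.1⁻¹ = 1 ∨ x.1 * y.1 * x.1⁻¹ * y.1⁻¹ = coding.gen 0 * coding.gen 2 := by
  obtain ⟨b, hb⟩ := comm_mod_j (conj_mem_bigQ hx) (conj_mem_bigQ hy)
  have e : MulAut.conj (x.1 * y.1 * x.1⁻¹ * y.1⁻¹) = jp b := by
    rw [map_mul, map_mul, map_mul, map_inv, map_inv, hb]; group
  cases b
  · exact Or.inl (PairTwo.conj_injective (e.trans (map_one MulAut.conj).symm))
  · exact Or.inr (PairTwo.conj_injective e)

theorem ker_sq {x : cenJ} (hx : phi x = 1) :
    x.1 * x.1 = 1 ∨ x.1 * x.1 = coding.gen 0 * coding.gen 2 := by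
  obtain ⟨b, hb⟩ := sq_mod_j (conj_mem_bigQ hx)
  rw [← map_mul] at hb
  cases b
  · exact Or.inl (PairTwo.conj_injective (hb.trans (map_one MulAut.conj).symm))
  · exact Or.inr (PairTwo.conj_injective hb)

end CfsgLib.Sporadic.FiTransfer.PairCentre
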