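import Cfsg.Agent.Lib.Sporadic.FiTransfer.PairTwo.Action
import Cfsg.Agent.Lib.Classical.LowRank.SixMinus
import Cfsg.Agent.Lib.Characterizations.SuzType.Setup
import Cfsg.Agent.S0288
import Cfsg.Agent.Lib.Sporadic.OrthTranspositions

/-!
# The automorphism group of the unitary group of degree four over the field with four elements
-/

set_option autoImplicit false
set_option maxRecDepth 100000

open CfsgLib.Orth

namespace CfsgLib.Sporadic.FiTransfer.PairCentre

local notation "Qf" => Cfsg.quadFormMinus 2 (ZMod 2) 1 1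
local notation "O6" => Cfsg.isometryGroup (ZMod 2) (Cfsg.quadFormMinus 2 (ZMod 2) 1 1)

theorem split_nonsingular : ∀ v : (Fin 2 ⊕ Fin 2) ⊕ Fin 2 → ZMod 2, ∃ a, Qf a = 1 ∧
    (v = a ∨ Qf (v + a) = 1) := by
  unfold Cfsg.quadFormMinus
  decide +kernel

/-- An isometry commuting with all transvections is trivial. -/
theorem eq_one_of_central {k : ↥O6} (h : ∀ g, g * k = k * g) : k = 1 := by
  have hQ := minusForm_nondeg (F := ZMod 2) 2 1 1 CfsgLib.Characterizations.SuzType.anisotropic_one
  set Q := minusForm (ZMod 2) 2 1 1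
  have hq : ∀ v, Qf v = Q v := minusForm_apply 2 1 1
  let T := toOrth Q hq
  have hfix : ∀ a, Q a = 1 → (T k).1 a = a := by
    intro a ha
    have hc : T k * refl Q a = refl Q a * T k := by
      obtain ⟨g, hg⟩ := T.surjective (refl Q a)
      rw [← hg, ← map_mul, ← map_mul, h g]
    have he : refl Q ((T k).1 a) = refl Q a := by
      rw [← conj_refl, hc, mul_inv_cancel_right]
    have hka : Q ((T k).1 a) = 1 := (apply_quad (T k) a).trans ha
    have ha0 : a ≠ 0 := by rintro rfl; simp at ha
    obtain ⟨v, hv⟩ : ∃ v, QuadraticMap.polar Q a v = 1 := by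
      by_contra hall
      push Not at hall
      exact ha0 (hQ.1 a fun v => (CfsgLib.Sporadic.OrthTranspositions.zmod2 _).resolve_right (hall v))
    have e := congrArg (fun g : orthGroup Q => g.1 v) he
    simp only [CfsgLib.Sporadic.OrthTranspositions.refl_apply' ha,
      CfsgLib.Sporadic.OrthTranspositions.refl_apply' hka, hv, one_smul, add_right_inj] at e
    rcases CfsgLib.Sporadic.OrthTranspositions.zmod2 (QuadraticMap.polar Q ((T k).1 a) v) with h0 | h0
    · rw [h0, zero_smul] at e
      exact absurd e.symm ha0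
    · rwa [h0, one_smul] at e
  apply T.injective
  rw [map_one]
  refine Subtype.ext (LinearEquiv.ext fun v => ?_)
  show (T k).1 v = v
  obtain ⟨a, ha, hv | hv⟩ := split_nonsingular v
  · exact hv ▸ hfix a (hq a ▸ ha)
  · have h1 := hfix _ (hq (v + a) ▸ hv)
    rw [map_add, hfix a (hq a ▸ ha)] at h1
    exact add_right_cancel h1

/-- The automorphism group of `PSU₄(2)` is the orthogonal group of minus type of degree six. -/
theorem mulAut_psu_iso {F : Type} [Field F] [Fintype F] (hF : Fintype.card F = 4) :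
    Nonempty (MulAut (Cfsg.PSU 4 F 2) ≃* ↥O6) := by
  classical
  let Ω := commutator ↥O6
  obtain ⟨φ⟩ := PairTwo.N40_iso hF
  have hP : Nat.card (Cfsg.PSU 4 F 2) = 25920 := by
    rw [← Nat.card_congr φ.toEquiv]; exact PairTwo.N40_spec.1
  have hAut : Nat.card (MulAut (Cfsg.PSU 4 F 2)) = 51840 := by
    rw [← Nat.card_congr (MulAut.congr φ).toEquiv]; exact PairTwo.card_aut_N40
  have hO : Nat.card ↥O6 = 51840 := by
    have := Cfsg.Agent.S0288.result (F := ZMod 2) (ZMod.card 2) 3 (by norm_num) 1 1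
      CfsgLib.Characterizations.SuzType.anisotropic_one
    rw [this]; decide +kernel
  have hΩ : Nat.card Ω = 25920 := CfsgLib.Characterizations.SuzType.card_omega
  have : CharP F 2 := charP_of_card_eq_prime_pow (f := 2) (by rw [hF]; norm_num)
  letI : Algebra (ZMod 2) F := ZMod.algebra F 2
  obtain ⟨ψ⟩ := CfsgLib.Classical.LowRank.pomega_six_minus (F := ZMod 2) (K := F) (q := 2) (a := 1) (b := 1)
    (ZMod.card 2) (by rw [hF]; norm_num) CfsgLib.Characterizations.SuzType.anisotropic_one
  have hZ : Subgroup.center Ω = ⊥ := by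
    have h := Subgroup.card_eq_card_quotient_mul_card_subgroup (Subgroup.center Ω)
    have hq : Nat.card (Ω ⧸ Subgroup.center Ω) = 25920 := (Nat.card_congr ψ.toEquiv).trans hP
    rw [hΩ, hq] at h
    exact Subgroup.eq_bot_of_card_eq _ (by omega)
  let e : Ω ≃* Cfsg.PSU 4 F 2 :=
    ((QuotientGroup.quotientMulEquivOfEq hZ).trans QuotientGroup.quotientBot).symm.trans ψ
  let c : ↥O6 →* MulAut Ω := MulAut.conjNormal
  have hc : ∀ k, c k = 1 → ∀ w ∈ Ω, k * w = w * k := fun k hk w hw => by
    have h := congrArg Subtype.val (DFunLike.congr_fun hk ⟨w, hw⟩)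
    rw [MulAut.conjNormal_apply, MulAut.one_apply] at h
    exact mul_inv_eq_iff_eq_mul.1 h
  have hinj : Function.Injective c := by
    rw [injective_iff_map_eq_one]
    intro k hk
    refine eq_one_of_central fun g => ?_
    have hm : g * k * g⁻¹ * k⁻¹ ∈ Ω :=
      Subgroup.commutator_mem_commutator (Subgroup.mem_top g) (Subgroup.mem_top k)
    have hmc : c (g * k * g⁻¹ * k⁻¹) = 1 := by simp [hk]
    have hcen : (⟨_, hm⟩ : Ω) ∈ Subgroup.center Ω :=
      Subgroup.mem_center_iff.2 fun w => Subtype.ext (hc _ hmc w.1 w.2).symm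
    rw [hZ, Subgroup.mem_bot] at hcen
    exact mul_inv_eq_iff_eq_mul.1 (mul_inv_eq_one.1 (congrArg Subtype.val hcen))
  have : Finite (MulAut (Cfsg.PSU 4 F 2)) := Nat.finite_of_card_ne_zero (by rw [hAut]; norm_num)
  let d : ↥O6 →* MulAut (Cfsg.PSU 4 F 2) := (MulAut.congr e).toMonoidHom.comp c
  have hb : Function.Bijective d := (Nat.bijective_iff_injective_and_card _).2
    ⟨(MulAut.congr e).injective.comp hinj, by rw [hO, hAut]⟩
  exact ⟨(MulEquiv.ofBijective d hb).symm⟩

end CfsgLib.Sporadic.FiTransfer.PairCentre
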