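import Cfsg.Agent.Lib.Sporadic.FiTransfer.PairCentre.Fitting
import Cfsg.Agent.Lib.Sporadic.FiTransfer.PairCentre.OrthSix

/-!
# The centraliser of a product of two commuting members in a group of type M(22)
-/

set_option autoImplicit false
set_option maxRecDepth 100000

open Cfsg.Spor
open CfsgLib.Sporadic.CosetCert CfsgLib.Sporadic.CosetCert.FiP CfsgLib.Sporadic.CosetCert.FiP.OutFi22
open CfsgLib.Sporadic.FiTransfer.PairTwo

namespace CfsgLib.Sporadic.FiTransfer.PairCentre

attribute [local irreducible] psi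

variable {G : Type*} [Group G] {D : Set G}

/-- The conclusion of the statement about the structure of the centraliser. -/
theorem pair_centralizer (h : ModelIso G D) (d₁ d₂ : G) (h₁ : d₁ ∈ D) (h₂ : d₂ ∈ D) (hne : d₁ ≠ d₂)
    (hc : Commute d₁ d₂) (K C V : Subgroup G) (hK : K = Subgroup.centralizer ({d₁, d₂} : Set G))
    (hC : C = Subgroup.centralizer ({d₁ * d₂} : Set G)) (hV : V = Subgroup.closure ({d₁, d₂} : Set G)) :
    K ≤ C ∧ (K.subgroupOf C).index = 2 ∧ (Subgroup.center ↥K).map K.subtype = V ∧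
      ∃ E : Subgroup G, V ≤ E ∧ E ≤ C ∧ (∀ c ∈ C, ∀ x ∈ E, c * x * c⁻¹ ∈ E) ∧ Nat.card E = 2 ^ 10 ∧
        (∀ x ∈ E, ∀ y ∈ E, x * y * x⁻¹ * y⁻¹ ∈ V ∧ x ^ 2 ∈ V) ∧
        ∃ (_ : (E.subgroupOf C).Normal) (F : Type) (_ : Field F) (_ : Fintype F),
          Fintype.card F = 4 ∧ Nonempty (↥C ⧸ E.subgroupOf C ≃* MulAut (Cfsg.PSU 4 F 2)) := by
  obtain ⟨e, ea, ed⟩ := exists_adapted h h₁ h₂ hne hc
  have := finite
  have hmem : ∀ g, g ∈ C ↔ e g ∈ cenJ := fun g => by
    rw [hC, cenJ, Subgroup.mem_centralizer_singleton_iff, Subgroup.mem_centralizer_singleton_iff, ← ea, ← ed,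
      ← map_mul, ← map_mul, ← map_mul]
    exact e.injective.eq_iff.symm
  have hmemK : ∀ g, g ∈ K ↔ e g ∈ stabC := fun g => by
    rw [hK, stabC, Subgroup.mem_centralizer_iff, Subgroup.mem_centralizer_iff]
    simp only [Set.mem_insert_iff, Set.mem_singleton_iff, forall_eq_or_imp, forall_eq, ← ea, ← ed,
      ← map_mul, e.injective.eq_iff]
  have hmemV : ∀ g, g ∈ V ↔ e g ∈ fourV := fun g => by
    have : V.map e.toMonoidHom = fourV := by
      rw [hV, MonoidHom.map_closure, fourV, Set.image_pair]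
      show Subgroup.closure {e d₁, e d₂} = _
      rw [ea, ed]
    rw [← this]
    exact (Subgroup.mem_map_iff_mem e.injective).symm
  have hmapC : C.map e.toMonoidHom = cenJ := by
    ext y
    obtain ⟨x, rfl⟩ := e.surjective y
    exact (Subgroup.mem_map_iff_mem e.injective).trans (hmem x)
  let ι : C ≃* cenJ := (C.equivMapOfInjective e.toMonoidHom e.injective).trans (MulEquiv.subgroupCongr hmapC)
  have hι : ∀ x : C, (ι x).1 = e x.1 := fun x => rfl
  let φ := phi.comp ι.toMonoidHom
  have hKC : K ≤ C := fun g hg => (hmem g).2 (stabC_le ((hmemK g).1 hg))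
  have hcardC : Nat.card C = 53084160 := by rw [Nat.card_congr ι.toEquiv, card_cenJ]
  have hcardK : Nat.card K = 26542080 := by
    rw [← card_stabC]
    exact Nat.card_congr ((e.toEquiv).subtypeEquiv hmemK)
  refine ⟨hKC, ?_, ?_, φ.ker.map C.subtype, ?_, Subgroup.map_subtype_le _, ?_, ?_, ?_, ?_⟩
  · have h := (K.subgroupOf C).card_mul_index
    rw [Nat.card_congr (Subgroup.subgroupOfEquivOfLe hKC).toEquiv, hcardC, hcardK] at h
    exact Nat.eq_of_mul_eq_mul_left (show 0 < 26542080 by norm_num) (h.trans (show 53084160 = 26542080 * 2 by norm_num))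
  · ext g
    constructor
    · rintro ⟨z, hz, rfl⟩
      refine (hmemV z.1).2 (center_stabC ((hmemK z.1).1 z.2) fun y hy => ?_)
      obtain ⟨x, rfl⟩ := e.surjective y
      rw [← map_mul, ← map_mul]
      exact congrArg e (congrArg Subtype.val (Subgroup.mem_center_iff.1 hz ⟨x, (hmemK x).2 hy⟩))
    · intro hg
      rw [hV] at hg
      have hle : Subgroup.closure ({d₁, d₂} : Set G) ≤ (Subgroup.center ↥K).map K.subtype := by
        rw [Subgroup.closure_le]
        rintro x hx
        have hxK : x ∈ K := by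
          rw [hK, Subgroup.mem_centralizer_iff]
          rcases hx with rfl | rfl <;> intro y hy <;> rcases hy with rfl | rfl
          exacts [rfl, hc.eq.symm, hc.eq, rfl]
        refine ⟨⟨x, hxK⟩, Subgroup.mem_center_iff.2 fun y => Subtype.ext ?_, rfl⟩
        have hy : y.1 ∈ Subgroup.centralizer ({d₁, d₂} : Set G) := hK ▸ y.2
        exact (Subgroup.mem_centralizer_iff.1 hy x hx).symm
      exact hle hg
  · intro g hg
    obtain ⟨h', hk⟩ := fourV_le_ker ((hmemV g).1 hg)
    exact ⟨⟨g, (hmem g).2 h'⟩, hk, rfl⟩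
  · rintro c hcC _ ⟨x, hx, rfl⟩
    have hm : (⟨c, hcC⟩ : C) * x * (⟨c, hcC⟩ : C)⁻¹ ∈ φ.ker := φ.normal_ker.conj_mem x hx ⟨c, hcC⟩
    have := Subgroup.mem_map_of_mem C.subtype hm
    rw [map_mul, map_mul, map_inv] at this
    exact this
  · rw [Subgroup.card_map_of_injective C.subtype_injective]
    have e1 : φ.ker = phi.ker.comap ι.toMonoidHom := rfl
    rw [e1, Subgroup.comap_equiv_eq_map_symm', Subgroup.card_map_of_injective ι.symm.injective, card_phi_ker]
    norm_num
  · rintro _ ⟨x, hx, rfl⟩ _ ⟨y, hy, rfl⟩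
    have hj : coding.gen 0 * coding.gen 2 ∈ fourV :=
      mul_mem (Subgroup.subset_closure (Set.mem_insert _ _)) (Subgroup.subset_closure (Or.inr rfl))
    constructor
    · rw [hmemV]
      show e (x.1 * y.1 * x.1⁻¹ * y.1⁻¹) ∈ _
      rw [map_mul, map_mul, map_mul, map_inv, map_inv, ← hι, ← hι]
      rcases ker_comm (x := ι x) (y := ι y) hx hy with h | h <;> rw [h]
      exacts [one_mem _, hj]
    · rw [hmemV]
      show e (x.1 ^ 2) ∈ _
      rw [pow_two, map_mul, ← hι]
      rcases ker_sq (x := ι x) hx with h | h <;> rw [h]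
      exacts [one_mem _, hj]
  · have hsub : (φ.ker.map C.subtype).subgroupOf C = φ.ker :=
      Subgroup.comap_map_eq_self_of_injective C.subtype_injective _
    have hn : ((φ.ker.map C.subtype).subgroupOf C).Normal := hsub.symm ▸ φ.normal_ker
    let F := GaloisField 2 2
    letI : Fintype F := Fintype.ofFinite F
    have hF : Fintype.card F = 4 := by
      rw [← Nat.card_eq_fintype_card, GaloisField.card 2 2 two_ne_zero]; norm_num
    refine ⟨hn, F, inferInstance, inferInstance, hF, ?_⟩
    obtain ⟨θ⟩ := range_iso (F := F) hF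
    have hr : φ.range = psi.range := by
      rw [MonoidHom.range_comp, MonoidHom.range_eq_top.2 ι.surjective, ← MonoidHom.range_eq_map, phi_range]
    exact ⟨(QuotientGroup.quotientMulEquivOfEq hsub).trans <| (QuotientGroup.quotientKerEquivRange φ).trans <|
      (MulEquiv.subgroupCongr hr).trans θ⟩

/-- The conclusion of the statement about the generalised Fitting subgroup of the centraliser. -/
theorem pair_fitting (h : ModelIso G D) (d₁ d₂ : G) (h₁ : d₁ ∈ D) (h₂ : d₂ ∈ D) (hne : d₁ ≠ d₂)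
    (hc : Commute d₁ d₂) (C : Subgroup G) (hC : C = Subgroup.centralizer ({d₁ * d₂} : Set G))
    [hn : (Cfsg.generalizedFittingSubgroup ↥C).Normal] :
    (∃ (E : Type) (_ : Group E) (_ : Finite E), Cfsg.IsExtraspecial 2 E ∧ Nat.card E = 2 ^ 9 ∧
      Nonempty (↥(Cfsg.generalizedFittingSubgroup ↥C) ≃* Multiplicative (ZMod 2) × E)) ∧
      Nonempty (↥C ⧸ Cfsg.generalizedFittingSubgroup ↥C ≃*
        Cfsg.isometryGroup (ZMod 2) (Cfsg.quadFormMinus 2 (ZMod 2) 1 1)) := by
  obtain ⟨e, ea, ed⟩ := exists_adapted h h₁ h₂ hne hc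
  have := finite
  have : Finite G := Finite.of_equiv _ e.symm.toEquiv
  have hmapC : C.map e.toMonoidHom = cenJ := by
    ext y
    obtain ⟨x, rfl⟩ := e.surjective y
    refine (Subgroup.mem_map_iff_mem e.injective).trans ?_
    rw [hC, cenJ, Subgroup.mem_centralizer_singleton_iff, Subgroup.mem_centralizer_singleton_iff, ← ea, ← ed,
      ← map_mul, ← map_mul, ← map_mul]
    exact e.injective.eq_iff.symm
  let ι : C ≃* cenJ := (C.equivMapOfInjective e.toMonoidHom e.injective).trans (MulEquiv.subgroupCongr hmapC)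
  let φ := phi.comp ι.toMonoidHom
  have hF : Cfsg.generalizedFittingSubgroup C = φ.ker := fitting_inner ι
  have hmap : φ.ker.map ι.toMonoidHom = phi.ker := Subgroup.map_comap_eq_self_of_surjective (f := ι.toMonoidHom) ι.surjective phi.ker
  refine ⟨?_, ?_⟩
  · obtain ⟨θ⟩ := ker_iso
    refine ⟨compl, inferInstance, inferInstance, compl_extraspecial, by rw [card_compl]; norm_num, ⟨?_⟩⟩
    exact (MulEquiv.subgroupCongr hF).trans <|
      ((φ.ker.equivMapOfInjective ι.toMonoidHom ι.injective).trans (MulEquiv.subgroupCongr hmap)).trans θ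
  · let F := GaloisField 2 2
    letI : Fintype F := Fintype.ofFinite F
    have hF4 : Fintype.card F = 4 := by
      rw [← Nat.card_eq_fintype_card, GaloisField.card 2 2 two_ne_zero]; norm_num
    obtain ⟨θ⟩ := range_iso (F := F) hF4
    obtain ⟨χ⟩ := mulAut_psu_iso hF4
    have hr : φ.range = psi.range := by
      rw [MonoidHom.range_comp, MonoidHom.range_eq_top.2 ι.surjective, ← MonoidHom.range_eq_map, phi_range]
    exact ⟨(QuotientGroup.quotientMulEquivOfEq hF).trans <| (QuotientGroup.quotientKerEquivRange φ).trans <|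
      (MulEquiv.subgroupCongr hr).trans (θ.trans χ)⟩

end CfsgLib.Sporadic.FiTransfer.PairCentre
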